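import Groth.Agent.Lib.AbRigid.Geometric
import Groth.Agent.S7785
import Groth.Agent.S7782
import Groth.Agent.S7788
import Groth.Agent.Lib.H12.FlatComp
import Mathlib.AlgebraicGeometry.Morphisms.FlatRank

/-!
# The kernel of a homomorphism of group schemes, and the isogeny inverse up to multiplication
-/

universe u

open CategoryTheory Limits AlgebraicGeometry MonoidalCategory CartesianMonoidalCategory MonObj
open scoped GrpObj

set_option linter.style.haveILetI false
set_option backward.isDefEq.respectTransparency false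
set_option backward.isDefEq.respectTransparency.types false

namespace Groth.Agent.Isogeny14

variable {S : Scheme.{u}} {X Y : Over S} [GrpObj X] [GrpObj Y] (f : X ⟶ Y) [IsMonHom f]

theorem hom_pow_comp {W : Over S} (g : W ⟶ X) (n : ℕ) : (g ^ n) ≫ f = (g ≫ f) ^ n := by
  induction n with
  | zero => rw [pow_zero, pow_zero, MonObj.one_comp]
  | succ n ih => rw [pow_succ, pow_succ, MonObj.mul_comp, ih]

/-- The kernel of a homomorphism, as an object over the base. -/
noncomputable def kerOver : Over S := Over.mk (pullback.snd f.left η[Y].left : pullback f.left η[Y].left ⟶ S)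

/-- The inclusion of the kernel. -/
noncomputable def kerIncl : kerOver f ⟶ X :=
  Over.homMk (pullback.fst f.left η[Y].left) (by
    show pullback.fst f.left η[Y].left ≫ X.hom = pullback.snd f.left η[Y].left
    rw [← Over.w f, pullback.condition_assoc, Over.w η[Y]]
    exact Category.comp_id _)

omit [GrpObj X] [IsMonHom f] in
theorem mono_kerIncl : Mono (kerIncl f) := ⟨fun a b h => by
  ext1
  exact pullback.hom_ext (congrArg CommaMorphism.left h) ((Over.w a).trans (Over.w b).symm)⟩

omit [GrpObj X] [IsMonHom f] in
theorem kerIncl_comp : kerIncl f ≫ f = 1 := by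
  ext1
  rw [Hom.one_def]
  exact pullback.condition

omit [GrpObj X] [IsMonHom f] in
theorem exists_kerLift {W : Over S} (k : W ⟶ X) (h : k ≫ f = 1) : ∃ k' : W ⟶ kerOver f, k' ≫ kerIncl f = k := by
  refine ⟨Over.homMk (pullback.lift k.left W.hom ?_) (pullback.lift_snd _ _ _), ?_⟩
  · exact (congrArg CommaMorphism.left (h.trans Hom.one_def)).trans rfl
  · ext1
    exact pullback.lift_fst _ _ _

/-- The lift of a point killed by `f` to the kernel. -/
noncomputable def kerLift {W : Over S} (k : W ⟶ X) (h : k ≫ f = 1) : W ⟶ kerOver f :=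
  (exists_kerLift f k h).choose

omit [GrpObj X] [IsMonHom f] in
theorem kerLift_incl {W : Over S} (k : W ⟶ X) (h : k ≫ f = 1) : kerLift f k h ≫ kerIncl f = k :=
  (exists_kerLift f k h).choose_spec

theorem one_comp_f : η[X] ≫ f = (1 : 𝟙_ (Over S) ⟶ Y) := by
  rw [IsMonHom.one_hom, one_eq_one]

theorem mul_comp_f :
    ((fst (kerOver f) (kerOver f) ≫ kerIncl f) * (snd (kerOver f) (kerOver f) ≫ kerIncl f)) ≫ f = 1 := by
  rw [MonObj.mul_comp, Category.assoc, Category.assoc, kerIncl_comp, MonObj.comp_one, MonObj.comp_one, _root_.one_mul]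

theorem inv_comp_f : (kerIncl f)⁻¹ ≫ f = 1 := by
  rw [GrpObj.inv_comp, kerIncl_comp, inv_one]

/-- The group structure of the kernel. -/
@[reducible] noncomputable def kerGrp : GrpObj (kerOver f) :=
  letI M : MonObj (kerOver f) :=
    { one := kerLift f η[X] (one_comp_f f)
      mul := kerLift f _ (mul_comp_f f)
      one_mul := by
        haveI := mono_kerIncl f
        rw [← cancel_mono (kerIncl f), Category.assoc, kerLift_incl, MonObj.comp_mul, ← Category.assoc,
          ← Category.assoc, whiskerRight_fst, whiskerRight_snd, Category.assoc, kerLift_incl,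
          one_eq_one, MonObj.comp_one, _root_.one_mul, leftUnitor_hom]
      mul_one := by
        haveI := mono_kerIncl f
        rw [← cancel_mono (kerIncl f), Category.assoc, kerLift_incl, MonObj.comp_mul, ← Category.assoc,
          ← Category.assoc, whiskerLeft_fst, whiskerLeft_snd, Category.assoc, kerLift_incl,
          one_eq_one, MonObj.comp_one, _root_.mul_one, rightUnitor_hom]
      mul_assoc := by
        haveI := mono_kerIncl f
        rw [← cancel_mono (kerIncl f)]
        simp only [Category.assoc, kerLift_incl, MonObj.comp_mul, whiskerRight_fst_assoc,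
          whiskerRight_snd_assoc, whiskerLeft_fst_assoc, whiskerLeft_snd_assoc,
          associator_hom_fst_assoc, associator_hom_snd_fst_assoc, associator_hom_snd_snd_assoc]
        rw [_root_.mul_assoc] }
  { toMonObj := M
    inv := kerLift f _ (inv_comp_f f)
    left_inv := by
      haveI := mono_kerIncl f
      rw [← cancel_mono (kerIncl f)]
      show (_ ≫ kerLift f _ (mul_comp_f f)) ≫ _ = (_ ≫ kerLift f η[X] (one_comp_f f)) ≫ _
      simp only [Category.assoc, kerLift_incl, MonObj.comp_mul, lift_fst_assoc, lift_snd_assoc, Category.id_comp,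
        one_eq_one, MonObj.comp_one, inv_mul_cancel]
    right_inv := by
      haveI := mono_kerIncl f
      rw [← cancel_mono (kerIncl f)]
      show (_ ≫ kerLift f _ (mul_comp_f f)) ≫ _ = (_ ≫ kerLift f η[X] (one_comp_f f)) ≫ _
      simp only [Category.assoc, kerLift_incl, MonObj.comp_mul, lift_fst_assoc, lift_snd_assoc, Category.id_comp,
        one_eq_one, MonObj.comp_one, mul_inv_cancel] }

theorem isMonHom_kerIncl : letI := kerGrp f; IsMonHom (kerIncl f) := by
  letI := kerGrp f
  refine ⟨kerLift_incl f _ (one_comp_f f), (kerLift_incl f _ (mul_comp_f f)).trans ?_⟩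
  rw [Hom.mul_def, lift_fst_comp_snd_comp]

theorem isCommMonObj_ker [IsCommMonObj X] : letI := kerGrp f; IsCommMonObj (kerOver f) := by
  letI := kerGrp f
  haveI := mono_kerIncl f
  haveI := isMonHom_kerIncl f
  refine ⟨?_⟩
  rw [← cancel_mono (kerIncl f)]
  show (_ ≫ kerLift f _ (mul_comp_f f)) ≫ _ = kerLift f _ (mul_comp_f f) ≫ _
  rw [Category.assoc, kerLift_incl, MonObj.comp_mul, ← Category.assoc, ← Category.assoc,
    CartesianMonoidalCategory.braiding_hom_fst, CartesianMonoidalCategory.braiding_hom_snd]
  letI : CommMonoid (kerOver f ⊗ kerOver f ⟶ X) := Hom.commMonoid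
  exact _root_.mul_comm _ _

/-- A homomorphism with kernel of constant rank `n` has kernel killed by `n`. -/
theorem kerIncl_pow [IsCommMonObj X] [IsFinite f.left] [Flat f.left] [LocallyOfFinitePresentation f.left] (n : ℕ)
    (hdeg : ∀ s : S, Scheme.Hom.finrank f.left (η[Y].left s) = n) : kerIncl f ^ n = 1 := by
  letI := kerGrp f
  haveI := isMonHom_kerIncl f
  haveI := isCommMonObj_ker f
  have hsq := IsPullback.of_hasPullback f.left η[Y].left
  haveI : IsFinite (kerOver f).hom := MorphismProperty.of_isPullback (P := @IsFinite) hsq ‹_›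
  haveI : Flat (kerOver f).hom := MorphismProperty.of_isPullback (P := @Flat) hsq ‹_›
  haveI : LocallyOfFinitePresentation (kerOver f).hom :=
    MorphismProperty.of_isPullback (P := @LocallyOfFinitePresentation) hsq ‹_›
  have h := S7782.result (kerOver f) n
    (fun s => (Scheme.Hom.finrank_of_isPullback _ _ _ _ hsq s).trans (hdeg s)) _ (𝟙 (kerOver f))
  calc kerIncl f ^ n = (𝟙 (kerOver f) ≫ kerIncl f) ^ n := by rw [Category.id_comp]
    _ = (𝟙 (kerOver f) ^ n) ≫ kerIncl f := (hom_pow_comp (kerIncl f) _ n).symm
    _ = 1 := by rw [h, MonObj.one_comp]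

/-- Two points with the same image under a homomorphism with kernel of rank `n` have the same `n`-th power. -/
theorem pow_eq_of_comp_eq [IsCommMonObj X] [IsFinite f.left] [Flat f.left] [LocallyOfFinitePresentation f.left] (n : ℕ)
    (hdeg : ∀ s : S, Scheme.Hom.finrank f.left (η[Y].left s) = n) {W : Over S} (a b : W ⟶ X)
    (h : a ≫ f = b ≫ f) : a ^ n = b ^ n := by
  letI : CommGroup (W ⟶ X) := Hom.commGroup
  have h1 : (a⁻¹ * b) ≫ f = 1 := by rw [MonObj.mul_comp, GrpObj.inv_comp, h, inv_mul_cancel]
  have h2 : (a⁻¹ * b) ^ n = 1 := by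
    rw [← kerLift_incl f _ h1, ← MonObj.comp_pow, kerIncl_pow f n hdeg, MonObj.comp_one]
  rw [mul_pow, inv_pow, inv_mul_eq_one] at h2
  exact h2

open VarDim in
/-- Multiplication by a positive integer on an abelian scheme is finite, flat and surjective. -/
theorem isFinite_flat_surjective_pow (X : Over S) [GrpObj X] [IsProper X.hom] [Flat X.hom]
    [LocallyOfFinitePresentation X.hom] [GeometricallyReduced X.hom] [GeometricallyConnected X.hom]
    (n : ℕ) (hn : 1 ≤ n) :
    IsFinite (𝟙 X ^ n).left ∧ Flat (𝟙 X ^ n).left ∧ Surjective (𝟙 X ^ n).left := by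
  have hdim : ∀ s : S, ∃ g : ℕ, topologicalKrullDim ↥(X.hom.fiber s) = g := fun s => by
    let B := (Over.pullback (S.fromSpecResidueField s)).obj X
    haveI : IsProper B.hom := inferInstanceAs (IsProper (pullback.snd X.hom _))
    haveI : GeometricallyIntegral B.hom := AbRigid.geometricallyIntegral_of_connected B
    haveI : IsIntegral B.left := GeometricallyIntegral.isIntegral_of_subsingleton B.hom
    exact ⟨_, dim_eq_sdim_genericPoint B.hom⟩
  choose g hg using hdim
  have h := S7788.result X g hg (n : ℤ) (by omega)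
  rw [zpow_natCast] at h
  exact ⟨h.1, h.2.1, h.2.2.1⟩

end Groth.Agent.Isogeny14
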